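import Mathlib

/-!
The double cover of the alternating group inside a Clifford algebra over the field with three
elements, in its spin representation.
-/

set_option autoImplicit false

namespace Cfsg.Lib.AltCover

open Equiv Finset
open scoped commutatorElement

variable {n : ℕ}

/-- The spin module. -/
abbrev Spin (n : ℕ) : Type := (Fin n → ZMod 2) → ZMod 3

/-- The operators on the spin module. -/
abbrev Op (n : ℕ) : Type := Module.End (ZMod 3) (Spin n)

/-- The sign character. -/
def chi (a : ZMod 2) : ZMod 3 := if a = 0 then 1 else -1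

theorem chi_add : ∀ a b : ZMod 2, chi (a + b) = chi a * chi b := by decide

/-- The exponent of the sign of a basic operator. -/
def expo (x : Fin n × Bool) (v : Fin n → ZMod 2) : ZMod 2 :=
  (∑ j, if j < x.1 then v j else 0) + if x.2 then v x.1 else 0

/-- The change of the exponent under a flip. -/
def shift (x : Fin n × Bool) (k : Fin n) : ZMod 2 :=
  (if k < x.1 then 1 else 0) + if x.2 ∧ k = x.1 then 1 else 0

theorem expo_flip (x : Fin n × Bool) (v : Fin n → ZMod 2) (k : Fin n) :
    expo x (v + Pi.single k 1) = expo x v + shift x k := by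
  have h1 : ∀ j, (if j < x.1 then (v + Pi.single k 1 : Fin n → ZMod 2) j else 0) =
      (if j < x.1 then v j else 0) + if j = k then (if k < x.1 then (1 : ZMod 2) else 0) else 0 := by
    intro j
    rcases eq_or_ne j k with rfl | h
    · split_ifs <;> simp_all
    · split_ifs <;> simp [h]
  simp only [expo, shift, h1, sum_add_distrib, Finset.sum_ite_eq', mem_univ, if_true]
  rcases eq_or_ne k x.1 with rfl | h
  · cases x.2 <;> simp <;> ring
  · cases x.2 <;> simp [h, Ne.symm h] <;> ring

/-- The basic operators. -/
def gen (x : Fin n × Bool) : Op n where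
  toFun φ v := chi (expo x v) * φ (v + Pi.single x.1 1)
  map_add' φ ψ := funext fun v => by simp [mul_add]
  map_smul' c φ := funext fun v => by simp [mul_left_comm]

theorem gen_apply (x : Fin n × Bool) (φ : Spin n) (v : Fin n → ZMod 2) :
    gen x φ v = chi (expo x v) * φ (v + Pi.single x.1 1) := rfl

theorem gen_gen (x y : Fin n × Bool) (φ : Spin n) (v : Fin n → ZMod 2) :
    (gen x * gen y) φ v = chi (expo x v + expo y v + shift y x.1) * φ (v + Pi.single x.1 1 + Pi.single y.1 1) := by
  rw [Module.End.mul_apply, gen_apply, gen_apply, expo_flip, ← mul_assoc, ← chi_add, add_assoc (expo x v)]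

theorem anticomm {x y : Fin n × Bool} (h : x ≠ y) : gen x * gen y = -(gen y * gen x) := by
  refine LinearMap.ext fun φ => funext fun v => ?_
  have e : shift y x.1 = shift x y.1 + 1 := by
    obtain ⟨i, b⟩ := x
    obtain ⟨j, c⟩ := y
    rcases lt_trichotomy i j with hij | rfl | hij
    · simp [shift, hij, not_lt.mpr hij.le, hij.ne, hij.ne']
    · cases b <;> cases c <;> simp_all [shift] <;> decide
    · simp [shift, hij, not_lt.mpr hij.le, hij.ne, hij.ne']
      decide
  rw [gen_gen, LinearMap.neg_apply, Pi.neg_apply, gen_gen, e, ← add_assoc, add_comm (expo x v) (expo y v), chi_add,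
    add_right_comm v, show chi 1 = -1 from rfl]
  ring

theorem pi2_add_self (w : Fin n → ZMod 2) : w + w = 0 := funext fun _ => CharTwo.add_self_eq_zero _

theorem gen_false_sq (i : Fin n) : gen (i, false) * gen (i, false) = 1 := by
  refine LinearMap.ext fun φ => funext fun v => ?_
  rw [gen_gen, Module.End.one_apply, add_assoc v, pi2_add_self, CharTwo.add_self_eq_zero]
  simp [chi, shift]

theorem gen_false_injective {i j : Fin n} (h : gen (i, false) = gen (j, false)) : i = j := by
  by_contra hne
  have := anticomm (x := ((i, false) : Fin n × Bool)) (y := (j, false)) (by simp [hne])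
  rw [← h, gen_false_sq] at this
  have h1 := congrFun (LinearMap.congr_fun this fun _ => 1) 0
  simp only [Module.End.one_apply, LinearMap.neg_apply, Pi.neg_apply] at h1
  exact (by decide : (1 : ZMod 3) ≠ -1) h1

/-- Operators commuting with all generators are scalars. -/
theorem scalar_of_comm (g : Op n) (h : ∀ x, g * gen x = gen x * g) :
    ∃ c : ZMod 3, g = c • 1 := by
  classical
  set s : (Fin n → ZMod 2) → Spin n := fun w => Pi.single w 1 with hs
  have hh : ∀ (i : Fin n), g * (gen (i, true) * gen (i, false)) = gen (i, true) * gen (i, false) * g := fun i => by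
    rw [← mul_assoc, h, mul_assoc, h, ← mul_assoc]
  have hval : ∀ (i : Fin n) (φ : Spin n) v, (gen (i, true) * gen (i, false)) φ v = chi (v i) * φ v := by
    intro i φ v
    rw [gen_gen, add_assoc v, pi2_add_self, add_zero]
    congr 2
    simp only [expo, shift, Bool.false_eq_true, false_and, if_false, if_true, lt_irrefl, add_zero]
    rw [add_right_comm, CharTwo.add_self_eq_zero, zero_add]
  have hdiag : ∀ w v, v ≠ w → g (s w) v = 0 := by
    intro w v hvw
    obtain ⟨i, hi⟩ := Function.ne_iff.mp hvw
    have he : (gen (i, true) * gen (i, false)) (s w) = chi (w i) • s w := funext fun u => by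
      rw [hval, Pi.smul_apply, smul_eq_mul, hs]
      rcases eq_or_ne u w with rfl | hu
      · rfl
      · simp [hu]
    have h1 := congrFun (LinearMap.congr_fun (hh i) (s w)) v
    rw [Module.End.mul_apply, he, map_smul, Module.End.mul_apply, hval, Pi.smul_apply, smul_eq_mul] at h1
    revert h1
    generalize g (s w) v = a
    revert hi
    generalize v i = p
    generalize w i = q
    revert a p q
    decide
  set c : (Fin n → ZMod 2) → ZMod 3 := fun w => g (s w) w with hc
  have hg : ∀ φ v, g φ v = c v * φ v := by
    intro φ v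
    have e : φ = ∑ w, φ w • s w := funext fun u => by simp [hs, Pi.single_apply]
    conv_lhs => rw [e, map_sum, Finset.sum_apply]
    rw [Finset.sum_eq_single v (fun w _ hw => by rw [map_smul, Pi.smul_apply, hdiag w v (Ne.symm hw), smul_zero])
      (fun hv => absurd (mem_univ v) hv), map_smul, Pi.smul_apply, smul_eq_mul, mul_comm]
  have hflip : ∀ v (i : Fin n), c v = c (v + Pi.single i 1) := by
    intro v i
    have h1 := congrFun (LinearMap.congr_fun (h (i, false)) (fun _ => 1)) v
    simp only [Module.End.mul_apply, gen_apply, hg, mul_one] at h1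
    revert h1
    generalize expo ((i, false) : Fin n × Bool) v = a
    generalize c v = p
    generalize c (v + Pi.single i 1) = q
    revert a p q
    decide
  have hconst : ∀ (t : Finset (Fin n)), c (∑ i ∈ t, Pi.single i 1) = c 0 := by
    intro t
    induction t using Finset.induction_on with
    | empty => simp
    | insert a t ha ih => rw [sum_insert ha, add_comm, ← hflip, ih]
  refine ⟨c 0, LinearMap.ext fun φ => funext fun v => ?_⟩
  have hv : (∑ i ∈ univ.filter (fun i => v i ≠ 0), Pi.single i (1 : ZMod 2)) = v := funext fun j => by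
    rw [Finset.sum_apply]
    simp only [Pi.single_apply, Finset.sum_ite_eq, mem_filter, mem_univ, true_and]
    generalize v j = a
    revert a
    decide
  rw [hg, ← hv, hconst]
  simp

/-- The vector of a transposition. -/
def root (a b : Fin n) : Op n := gen (a, false) - gen (b, false)

theorem three_zero (x : Op n) : x + x + x = 0 :=
  LinearMap.ext fun φ => funext fun v => (by decide : ∀ a : ZMod 3, a + a + a = 0) _

theorem op_mul_neg (x y : Op n) : x * -y = -(x * y) := mul_neg x y

theorem op_neg_mul (x y : Op n) : -x * y = -(x * y) := neg_mul x y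

theorem root_sq {a b : Fin n} (h : a ≠ b) : root a b * root a b = -1 := by
  rw [root, sub_mul, mul_sub, mul_sub, gen_false_sq, gen_false_sq, anticomm (x := ((a, false) : Fin n × Bool))
    (y := (b, false)) (by simp [h]), eq_neg_iff_add_eq_zero]
  have := three_zero (n := n) 1
  rw [← this]
  abel

theorem root_anticomm {a b : Fin n} {x : Fin n × Bool} (h1 : x ≠ (a, false)) (h2 : x ≠ (b, false)) :
    root a b * gen x = -(gen x * root a b) := by
  rw [root, sub_mul, mul_sub, anticomm h1.symm, anticomm h2.symm]
  abel

/-- The unit of a transposition. -/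
def rootUnit {a b : Fin n} (h : a ≠ b) : (Op n)ˣ :=
  ⟨root a b, -root a b, by rw [op_mul_neg, root_sq h, neg_neg], by rw [op_neg_mul, root_sq h, neg_neg]⟩

theorem root_conj {a b : Fin n} (h : a ≠ b) (i : Fin n) :
    root a b * gen (i, false) * (-root a b) = -gen (Equiv.swap a b i, false) := by
  rw [op_mul_neg, neg_inj]
  by_cases hi : i = a ∨ i = b
  · have key : ∀ c d : Fin n, c ≠ d →
        (gen (c, false) - gen (d, false)) * gen (c, false) * (gen (c, false) - gen (d, false)) = gen (d, false) := by
      intro c d hcd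
      have h1 := gen_false_sq c
      have h2 := gen_false_sq d
      have h3 := anticomm (x := ((d, false) : Fin n × Bool)) (y := (c, false)) (by simp [hcd.symm])
      rw [sub_mul, h1, h3, sub_neg_eq_add, add_mul, one_mul, mul_sub, mul_assoc (gen (c, false)),
        mul_assoc (gen (c, false)) (gen (d, false)) (gen (d, false)), h2, mul_one, h3, op_mul_neg, ← mul_assoc, h1, one_mul]
      rw [eq_comm, ← sub_eq_zero]
      have := three_zero (gen (d, false))
      rw [← this]
      abel
    rcases hi with rfl | rfl
    · rw [Equiv.swap_apply_left]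
      exact key i b h
    · rw [Equiv.swap_apply_right, root, show gen (a, false) - gen (i, false) = -(gen (i, false) - gen (a, false))
        from (neg_sub _ _).symm, op_neg_mul, op_neg_mul, op_mul_neg, neg_neg]
      exact key i a h.symm
  · obtain ⟨ha, hb⟩ := not_or.mp hi
    rw [Equiv.swap_apply_of_ne_of_ne ha hb, root_anticomm (by simp [ha]) (by simp [hb]), op_neg_mul, mul_assoc,
      root_sq h, op_mul_neg, mul_one, neg_neg]

/-- Even monomial units: fixing the auxiliary operators and permuting the main ones. -/
def monUnits (n : ℕ) : Subgroup (Op n)ˣ where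
  carrier := {g : (Op n)ˣ | (∀ i, (g : Op n) * gen (i, true) = gen (i, true) * (g : Op n)) ∧
    ∃ σ : Perm (Fin n), ∀ i, (g : Op n) * gen (i, false) = gen (σ i, false) * (g : Op n)}
  one_mem' := ⟨fun i => by simp, 1, fun i => by simp⟩
  mul_mem' := by
    rintro g h ⟨hg, σ, hσ⟩ ⟨hh, τ, hτ⟩
    refine ⟨fun i => ?_, σ * τ, fun i => ?_⟩
    · rw [Units.val_mul, mul_assoc, hh, ← mul_assoc, hg, mul_assoc]
    · rw [Units.val_mul, mul_assoc, hτ, ← mul_assoc, hσ, mul_assoc]; rfl
  inv_mem' := by
    rintro g ⟨hg, σ, hσ⟩
    refine ⟨fun i => ?_, σ⁻¹, fun i => ?_⟩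
    · rw [Units.inv_mul_eq_iff_eq_mul, ← mul_assoc, hg, mul_assoc, Units.mul_inv, mul_one]
    · rw [Units.inv_mul_eq_iff_eq_mul, ← mul_assoc, hσ, mul_assoc, Units.mul_inv, mul_one, Perm.coe_inv,
        Equiv.apply_symm_apply]

theorem perm_unique {g : (Op n)ˣ} {σ τ : Perm (Fin n)}
    (h1 : ∀ i, (g : Op n) * gen (i, false) = gen (σ i, false) * (g : Op n))
    (h2 : ∀ i, (g : Op n) * gen (i, false) = gen (τ i, false) * (g : Op n)) : σ = τ :=
  Equiv.ext fun i => gen_false_injective ((Units.mul_left_inj g).mp ((h1 i).symm.trans (h2 i)))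

/-- The permutation of a monomial unit. -/
noncomputable def perm (n : ℕ) : monUnits n →* Perm (Fin n) where
  toFun g := g.2.2.choose
  map_one' := perm_unique (g := 1) (monUnits n).one_mem.2.choose_spec fun i => by simp
  map_mul' g h := by
    refine perm_unique (g := ((g * h : monUnits n) : (Op n)ˣ)) (g * h).2.2.choose_spec fun i => ?_
    rw [Subgroup.coe_mul, Units.val_mul, mul_assoc, h.2.2.choose_spec i, ← mul_assoc, g.2.2.choose_spec, mul_assoc]
    rfl

theorem perm_eq {g : monUnits n} {σ : Perm (Fin n)}
    (h : ∀ i, ((g : (Op n)ˣ) : Op n) * gen (i, false) =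
      gen (σ i, false) * ((g : (Op n)ˣ) : Op n)) : perm n g = σ :=
  perm_unique g.2.2.choose_spec h

theorem mul_root {a b : Fin n} (h : a ≠ b) (i : Fin n) :
    root a b * gen (i, false) = -(gen (Equiv.swap a b i, false) * root a b) := by
  have := congrArg (· * root a b) (root_conj h i)
  simp only [mul_assoc, op_neg_mul, root_sq h, neg_neg, mul_one] at this
  exact this

theorem mul_root_true {a b : Fin n} (i : Fin n) : root a b * gen (i, true) = -(gen (i, true) * root a b) :=
  root_anticomm (by simp) (by simp)

theorem pair_conj {a b c d : Fin n} (h : a ≠ b) (h' : c ≠ d) (i : Fin n) :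
    root a b * root c d * gen (i, false) =
      gen ((Equiv.swap a b * Equiv.swap c d) i, false) * (root a b * root c d) := by
  rw [mul_assoc, mul_root h', op_mul_neg, ← mul_assoc, mul_root h, op_neg_mul, neg_neg, mul_assoc, Perm.mul_apply]

theorem pair_mem {a b c d : Fin n} (h : a ≠ b) (h' : c ≠ d) : rootUnit h * rootUnit h' ∈ monUnits n :=
  ⟨fun i => by
    show root a b * root c d * gen (i, true) = gen (i, true) * (root a b * root c d)
    rw [mul_assoc, mul_root_true, op_mul_neg, ← mul_assoc, mul_root_true, op_neg_mul, neg_neg, mul_assoc],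
    Equiv.swap a b * Equiv.swap c d, fun i => pair_conj h h' i⟩

theorem perm_pair {a b c d : Fin n} (h : a ≠ b) (h' : c ≠ d) :
    perm n ⟨_, pair_mem h h'⟩ = Equiv.swap a b * Equiv.swap c d :=
  perm_eq fun i => pair_conj h h' i

theorem neg_one_mem : (-1 : (Op n)ˣ) ∈ monUnits n :=
  ⟨fun i => by simp, 1, fun i => by simp⟩

theorem perm_ker {g : monUnits n} (hg : perm n g = 1) :
    (g : (Op n)ˣ) = 1 ∨ (g : (Op n)ˣ) = -1 := by
  set u := ((g : (Op n)ˣ) : Op n) with hu
  obtain ⟨c, hc⟩ := scalar_of_comm u fun x => by
    obtain ⟨i, b⟩ := x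
    cases b
    · have h : u * gen (i, false) = gen (g.2.2.choose i, false) * u :=
        g.2.2.choose_spec i
      rwa [show g.2.2.choose = 1 from hg, Perm.one_apply] at h
    · exact g.2.1 i
  rcases (by decide : ∀ c : ZMod 3, c = 0 ∨ c = 1 ∨ c = -1) c with rfl | rfl | rfl
  · exfalso
    have h1 : u * ((g : (Op n)ˣ)⁻¹ : (Op n)ˣ) = 1 := Units.mul_inv _
    rw [hc, zero_smul, zero_mul] at h1
    exact zero_ne_one h1
  · exact Or.inl (Units.ext (hc.trans (one_smul _ _)))
  · exact Or.inr (Units.ext (hc.trans (LinearMap.ext fun φ => by simp)))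

set_option maxHeartbeats 1000000 in
theorem double_cover (n : ℕ) (hn : 4 ≤ n) : ∃ (Γ : Type) (_ : Group Γ) (_ : Finite Γ) (z : Γ)
    (_ : z ∈ Subgroup.center Γ), orderOf z = 2 ∧ z ∈ commutator Γ ∧
      ∃ _ : (Subgroup.zpowers z).Normal, Nonempty (Γ ⧸ Subgroup.zpowers z ≃* alternatingGroup (Fin n)) := by
  classical
  haveI : Finite (Op n) := Finite.of_injective _ DFunLike.coe_injective
  set p := perm n
  set Γ := (alternatingGroup (Fin n)).comap p
  let f : Γ →* alternatingGroup (Fin n) := (p.comp Γ.subtype).codRestrict _ fun g => g.2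
  have hzero : p ⟨-1, neg_one_mem⟩ = 1 := perm_eq fun i => by simp
  let z : Γ := ⟨⟨-1, neg_one_mem⟩, Subgroup.mem_comap.mpr (by rw [hzero]; exact one_mem _)⟩
  have hzne : (z : Γ) ≠ 1 := by
    intro h
    have h1 : (-1 : (Op n)ˣ) = 1 := congrArg (fun g : Γ => ((g : monUnits n) : (Op n)ˣ)) h
    have h2 := congrFun (LinearMap.congr_fun (congrArg Units.val h1) fun _ => 1) 0
    simp at h2
    exact (by decide : (-1 : ZMod 3) ≠ 1) h2
  have hzc : z ∈ Subgroup.center Γ := Subgroup.mem_center_iff.mpr fun g => by
    refine Subtype.ext (Subtype.ext ?_)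
    refine Units.ext ?_
    show _ * (-1 : Op n) = -1 * _
    rw [op_mul_neg, op_neg_mul, mul_one, one_mul]
  have hz2 : z ^ 2 = 1 := by
    rw [pow_two]
    refine Subtype.ext (Subtype.ext (Units.ext ?_))
    show (-1 : Op n) * -1 = 1
    rw [op_mul_neg, mul_one, neg_neg]
  have hord : orderOf z = 2 := orderOf_eq_prime hz2 hzne
  have hker : f.ker = Subgroup.zpowers z := by
    refine le_antisymm (fun g hg => ?_) (Subgroup.zpowers_le.mpr (Subtype.ext hzero))
    rcases perm_ker (congrArg Subtype.val hg) with h | h
    · rw [show g = 1 from Subtype.ext (Subtype.ext h)]; exact one_mem _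
    · rw [show g = z from Subtype.ext (Subtype.ext h)]; exact Subgroup.mem_zpowers z
  have hsurj : Function.Surjective f := by
    rw [← MonoidHom.range_eq_top, eq_top_iff]
    rintro ⟨σ, hσ⟩ -
    have : (alternatingGroup (Fin n)) ≤ f.range.map (alternatingGroup (Fin n)).subtype := by
      refine le_trans (le_of_eq Equiv.Perm.closure_three_cycles_eq_alternating.symm) ((Subgroup.closure_le _).mpr ?_)
      intro τ hτ
      obtain ⟨a, b, c, hab, hac, hbc, rfl⟩ : ∃ a b c, a ≠ b ∧ a ≠ c ∧ b ≠ c ∧ τ = Equiv.swap a b * Equiv.swap a c := by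
        replace hτ : Perm.IsThreeCycle τ := hτ
        obtain ⟨a, ha⟩ : τ.support.Nonempty := card_pos.mp (by rw [hτ.card_support]; norm_num)
        have h3 : τ ^ 3 = 1 := by rw [← hτ.orderOf]; exact pow_orderOf_eq_one τ
        rw [Perm.mem_support] at ha
        have h23 : τ (τ (τ a)) = a := by
          have := congrArg (fun s : Perm (Fin n) => s a) h3
          simpa [pow_succ] using this
        refine ⟨a, τ (τ a), τ a, ?_, ha.symm, fun e => ha (τ.injective e), Equiv.ext fun x => ?_⟩
        · intro e
          rw [← e] at h23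
          exact ha h23
        · rw [Perm.mul_apply]
          by_cases hxa : x = a
          · subst hxa
            rw [Equiv.swap_apply_left, Equiv.swap_apply_of_ne_of_ne ha (fun e => ha (τ.injective e).symm)]
          by_cases hxb : x = τ a
          · subst hxb
            rw [Equiv.swap_apply_right, Equiv.swap_apply_left]
          by_cases hxc : x = τ (τ a)
          · subst hxc
            rw [h23, Equiv.swap_apply_of_ne_of_ne hxa hxb, Equiv.swap_apply_right]
          rw [Equiv.swap_apply_of_ne_of_ne hxa hxb, Equiv.swap_apply_of_ne_of_ne hxa hxc]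
          by_contra hne
          have hsupp : τ.support.card = 3 := hτ.card_support
          have hsub : ({a, τ a, τ (τ a), x} : Finset (Fin n)) ⊆ τ.support := by
            have h1 : τ a ∈ τ.support := Perm.apply_mem_support.mpr (Perm.mem_support.mpr ha)
            intro y hy
            simp only [mem_insert, mem_singleton] at hy
            rcases hy with rfl | rfl | rfl | rfl
            · exact Perm.mem_support.mpr ha
            · exact h1
            · exact Perm.apply_mem_support.mpr h1
            · exact Perm.mem_support.mpr hne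
          have := card_le_card hsub
          rw [hsupp, card_insert_of_notMem, card_insert_of_notMem, card_insert_of_notMem, card_singleton] at this
          · omega
          · simpa using fun e : τ (τ a) = x => hxc e.symm
          · simp only [mem_insert, mem_singleton, not_or]
            exact ⟨fun e => ha (τ.injective e.symm), fun e => hxb e.symm⟩
          · simp only [mem_insert, mem_singleton, not_or]
            refine ⟨fun e => ha e.symm, fun e => ?_, fun e => hxa e.symm⟩
            rw [← e] at h23
            exact ha h23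
      have hm : Equiv.swap a b * Equiv.swap a c ∈ alternatingGroup (Fin n) := by
        simp [Perm.mem_alternatingGroup, Perm.sign_swap hab, Perm.sign_swap hac]
      exact ⟨⟨_, hm⟩, ⟨⟨⟨_, pair_mem hab hac⟩, Subgroup.mem_comap.mpr (by rw [perm_pair hab hac]; exact hm)⟩,
        Subtype.ext (perm_pair hab hac)⟩, rfl⟩
    obtain ⟨y, hy, e⟩ := this hσ
    exact (show y = ⟨σ, hσ⟩ from Subtype.ext e) ▸ hy
  have hcomm : z ∈ commutator Γ := by
    let q : ℕ → Fin n := fun k => if hk : k < n then ⟨k, hk⟩ else ⟨0, by omega⟩
    have hq : ∀ k, k < 4 → (q k : ℕ) = k := fun k hk => by simp [q, show k < n by omega]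
    have hne : ∀ j k, j < 4 → k < 4 → j ≠ k → q j ≠ q k := fun j k hj hk h e => h (by rw [← hq j hj, ← hq k hk, e])
    have h01 := hne 0 1 (by omega) (by omega) (by omega)
    have h23 := hne 2 3 (by omega) (by omega) (by omega)
    have h02 := hne 0 2 (by omega) (by omega) (by omega)
    have h13 := hne 1 3 (by omega) (by omega) (by omega)
    have h03 := hne 0 3 (by omega) (by omega) (by omega)
    have h12 := hne 1 2 (by omega) (by omega) (by omega)
    have hu : Equiv.swap (q 0) (q 1) * Equiv.swap (q 2) (q 3) ∈ alternatingGroup (Fin n) := by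
      simp [Perm.mem_alternatingGroup, Perm.sign_swap h01, Perm.sign_swap h23]
    have hv : Equiv.swap (q 0) (q 2) * Equiv.swap (q 1) (q 3) ∈ alternatingGroup (Fin n) := by
      simp [Perm.mem_alternatingGroup, Perm.sign_swap h02, Perm.sign_swap h13]
    let U : Γ := ⟨⟨_, pair_mem h01 h23⟩, Subgroup.mem_comap.mpr (by rw [perm_pair h01 h23]; exact hu)⟩
    let V : Γ := ⟨⟨_, pair_mem h02 h13⟩, Subgroup.mem_comap.mpr (by rw [perm_pair h02 h13]; exact hv)⟩
    have key : (root (q 0) (q 2) * root (q 1) (q 3)) * (root (q 0) (q 1) * root (q 2) (q 3)) =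
        -((root (q 0) (q 1) * root (q 2) (q 3)) * (root (q 0) (q 2) * root (q 1) (q 3))) := by
      set W := root (q 0) (q 2) * root (q 1) (q 3) with hW
      have hWg : ∀ i j : Fin n, W * root i j =
          root ((Equiv.swap (q 0) (q 2) * Equiv.swap (q 1) (q 3)) i) ((Equiv.swap (q 0) (q 2) * Equiv.swap (q 1) (q 3)) j) * W := fun i j => by
        rw [root, root, mul_sub, sub_mul, hW, pair_conj h02 h13, pair_conj h02 h13]
      rw [← mul_assoc, hWg, mul_assoc, hWg, ← mul_assoc]
      simp only [Perm.mul_apply, Equiv.swap_apply_left, Equiv.swap_apply_right,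
        Equiv.swap_apply_of_ne_of_ne h01 h03, Equiv.swap_apply_of_ne_of_ne h01.symm h12,
        Equiv.swap_apply_of_ne_of_ne h03.symm h23.symm, Equiv.swap_apply_of_ne_of_ne h12.symm h23]
      rw [← op_neg_mul]
      congr 1
      rw [show root (q 0) (q 1) = gen (q 0, false) - gen (q 1, false) from rfl, mul_sub, sub_mul,
        root_anticomm (by simp [h02]) (by simp [h03]), root_anticomm (by simp [h12]) (by simp [h13])]
      abel
    have : z = ⁅V, U⁆ := by
      rw [commutatorElement_def, eq_mul_inv_iff_mul_eq, eq_mul_inv_iff_mul_eq, mul_assoc]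
      refine Subtype.ext (Subtype.ext (Units.ext ?_))
      show (-1 : Op n) * ((root (q 0) (q 1) * root (q 2) (q 3)) * (root (q 0) (q 2) * root (q 1) (q 3))) =
        (root (q 0) (q 2) * root (q 1) (q 3)) * (root (q 0) (q 1) * root (q 2) (q 3))
      rw [key, op_neg_mul, one_mul]
    rw [this]
    exact Subgroup.commutator_mem_commutator (Subgroup.mem_top _) (Subgroup.mem_top _)
  have hn' : (Subgroup.zpowers z).Normal := hker ▸ MonoidHom.normal_ker f
  exact ⟨Γ, inferInstance, Finite.of_injective (fun g : Γ => ((g : monUnits n) : (Op n)ˣ))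
    (Subtype.val_injective.comp Subtype.val_injective), z, hzc, hord, hcomm, hn',
    ⟨(QuotientGroup.quotientMulEquivOfEq hker.symm).trans (QuotientGroup.quotientKerEquivOfSurjective f hsurj)⟩⟩

end Cfsg.Lib.AltCover
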