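import Mathlib

/-!
Even permutations as commutators `[a, b]` with `b` containing two transpositions.
-/

set_option autoImplicit false

namespace Cfsg.Lib.AltCover

open Equiv Equiv.Perm

variable {α : Type*} [Fintype α] [DecidableEq α]

theorem support_subset_conj {u v σ : Perm α} (hu : u.support ⊆ σ.support) (hv : v.support ⊆ σ.support) :
    (u * v * u⁻¹).support ⊆ σ.support := by
  rw [support_conj]
  intro y hy
  obtain ⟨x, hx, rfl⟩ := Finset.mem_map.1 hy
  by_cases h : u x = x
  · simpa [h] using hv hx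
  · exact hu (apply_mem_support.2 (mem_support.2 h))

theorem invol_cycleType {u : Perm α} (hu : u * u = 1) :
    ∃ k : ℕ, u.cycleType = Multiset.replicate k 2 ∧ u.support.card = 2 * k ∧
      Perm.sign u = (-1) ^ k := by
  have h : u.cycleType = Multiset.replicate u.cycleType.card 2 :=
    cycleType_of_pow_prime_eq_one (by rw [pow_two, hu])
  have hc : u.support.card = 2 * u.cycleType.card := by
    rw [← sum_cycleType u]
    conv_lhs => rw [h]
    rw [Multiset.sum_replicate, smul_eq_mul, mul_comm]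
  refine ⟨_, h, hc, ?_⟩
  rw [sign_of_cycleType, sum_cycleType, hc, pow_add, pow_mul, Int.units_sq, one_pow, one_mul]

/-- `u` and `v` are involutions with product `σ`, moving only what `σ` moves, and suitably balanced. -/
def Pair (σ : Perm α) : Prop :=
  ∃ u v : Perm α, u * u = 1 ∧ v * v = 1 ∧ u * v = σ ∧ u.support ⊆ σ.support ∧ v.support ⊆ σ.support ∧
    (Perm.sign σ = 1 → u.support.card = v.support.card ∧ (σ = 1 ∨ u.support.card < σ.support.card)) ∧
    (Perm.sign σ = -1 → u.support.card = v.support.card + 2 ∧ v.support.card < σ.support.card)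

theorem Pair.swap {σ : Perm α} (h : Pair σ) :
    ∃ u v : Perm α, u * u = 1 ∧ v * v = 1 ∧ u * v = σ ∧ u.support ⊆ σ.support ∧ v.support ⊆ σ.support ∧
    (Perm.sign σ = -1 → v.support.card = u.support.card + 2 ∧ u.support.card < σ.support.card) := by
  obtain ⟨u, v, hu, hv, he, hus, hvs, -, hodd⟩ := h
  have hui : u⁻¹ = u := inv_eq_of_mul_eq_one_right hu
  refine ⟨u * v * u⁻¹, u, ?_, hu, ?_, support_subset_conj hus hvs, hus, ?_⟩
  · rw [show u * v * u⁻¹ * (u * v * u⁻¹) = u * (v * v) * u⁻¹ by group, hv, mul_one, mul_inv_cancel]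
  · rw [inv_mul_cancel_right, he]
  · intro hs
    obtain ⟨h1, h2⟩ := hodd hs
    rw [card_support_conj]
    exact ⟨h1, h2⟩

theorem Pair.mul {σ τ : Perm α} (hd : Disjoint σ τ) (hσ : Pair σ) (hτ : Pair τ) : Pair (σ * τ) := by
  have key : ∀ u1 v1 u2 v2 : Perm α, u1 * u1 = 1 → v1 * v1 = 1 → u1 * v1 = σ → u1.support ⊆ σ.support →
      v1.support ⊆ σ.support → u2 * u2 = 1 → v2 * v2 = 1 → u2 * v2 = τ → u2.support ⊆ τ.support →
      v2.support ⊆ τ.support →
      (u1 * u2) * (u1 * u2) = 1 ∧ (v1 * v2) * (v1 * v2) = 1 ∧ (u1 * u2) * (v1 * v2) = σ * τ ∧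
        (u1 * u2).support ⊆ (σ * τ).support ∧ (v1 * v2).support ⊆ (σ * τ).support ∧
        (u1 * u2).support.card = u1.support.card + u2.support.card ∧
        (v1 * v2).support.card = v1.support.card + v2.support.card := by
    intro u1 v1 u2 v2 a1 b1 e1 c1 d1 a2 b2 e2 c2 d2
    have hdis : ∀ x y : Perm α, x.support ⊆ σ.support → y.support ⊆ τ.support → Disjoint x y := fun x y hx hy =>
      disjoint_iff_disjoint_support.2 ((disjoint_iff_disjoint_support.1 hd).mono hx hy)
    have hu := hdis u1 u2 c1 c2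
    have hv := hdis v1 v2 d1 d2
    have hvu := (hdis v1 u2 d1 c2).commute
    refine ⟨?_, ?_, ?_, ?_, ?_, hu.card_support_mul, hv.card_support_mul⟩
    · rw [mul_assoc, ← mul_assoc u2, ← hu.commute.eq, mul_assoc u1 u2, a2, mul_one, a1]
    · rw [mul_assoc, ← mul_assoc v2, ← hv.commute.eq, mul_assoc v1 v2, b2, mul_one, b1]
    · rw [mul_assoc u1, ← mul_assoc u2, ← hvu.eq, mul_assoc v1, e2, ← mul_assoc, e1]
    · rw [hu.support_mul, hd.support_mul]; exact Finset.union_subset_union c1 c2
    · rw [hv.support_mul, hd.support_mul]; exact Finset.union_subset_union d1 d2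
  have hcard := hd.card_support_mul
  obtain ⟨u1, v1, a1, b1, e1, c1, d1, hev1, hod1⟩ := hσ
  rcases Int.units_eq_one_or (Perm.sign τ) with hs2 | hs2
  · obtain ⟨u2, v2, a2, b2, e2, c2, d2, hev2, -⟩ := hτ
    obtain ⟨A, B, E, CS, DS, NU, NV⟩ := key u1 v1 u2 v2 a1 b1 e1 c1 d1 a2 b2 e2 c2 d2
    refine ⟨_, _, A, B, E, CS, DS, fun hs => ?_, fun hs => ?_⟩ <;> rw [map_mul, hs2, mul_one] at hs
    · obtain ⟨h1, h1'⟩ := hev1 hs
      obtain ⟨h2, h2'⟩ := hev2 hs2
      refine ⟨by omega, ?_⟩
      by_cases hσ1 : σ = 1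
      · by_cases hτ1 : τ = 1
        · exact Or.inl (by rw [hσ1, hτ1, one_mul])
        · have := Finset.card_le_card c1
          have := h2'.resolve_left hτ1
          omega
      · have := Finset.card_le_card c2
        have := h1'.resolve_left hσ1
        omega
    · obtain ⟨h1, h1'⟩ := hod1 hs
      obtain ⟨h2, -⟩ := hev2 hs2
      have := Finset.card_le_card d2
      exact ⟨by omega, by omega⟩
  · rcases Int.units_eq_one_or (Perm.sign σ) with hs1 | hs1
    · obtain ⟨u2, v2, a2, b2, e2, c2, d2, -, hod2⟩ := hτ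
      obtain ⟨A, B, E, CS, DS, NU, NV⟩ := key u1 v1 u2 v2 a1 b1 e1 c1 d1 a2 b2 e2 c2 d2
      obtain ⟨h1, -⟩ := hev1 hs1
      obtain ⟨h2, h2'⟩ := hod2 hs2
      have := Finset.card_le_card d1
      refine ⟨_, _, A, B, E, CS, DS, fun hs => ?_, fun _ => ⟨by omega, by omega⟩⟩
      rw [map_mul, hs1, hs2] at hs
      exact absurd hs (by decide)
    · obtain ⟨u2, v2, a2, b2, e2, c2, d2, hod2⟩ := hτ.swap
      obtain ⟨A, B, E, CS, DS, NU, NV⟩ := key u1 v1 u2 v2 a1 b1 e1 c1 d1 a2 b2 e2 c2 d2
      obtain ⟨h1, h1'⟩ := hod1 hs1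
      obtain ⟨h2, h2'⟩ := hod2 hs2
      have := Finset.card_le_card c1
      refine ⟨_, _, A, B, E, CS, DS, fun _ => ⟨by omega, Or.inr (by omega)⟩, fun hs => ?_⟩
      rw [map_mul, hs1, hs2] at hs
      exact absurd hs (by decide)

theorem Pair.one : Pair (1 : Perm α) :=
  ⟨1, 1, one_mul 1, one_mul 1, one_mul 1, by simp, by simp, fun _ => ⟨rfl, Or.inl rfl⟩,
    fun h => absurd h (by rw [map_one]; decide)⟩

theorem Pair.of_isCycle {c : Perm α} (hc : c.IsCycle) : Pair c := by
  classical
  obtain ⟨x, hx, -⟩ := id hc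
  obtain ⟨π, hπ⟩ : ∃ π : Perm α, π * c * π⁻¹ = c⁻¹ :=
    isConj_iff.1 (isConj_iff_cycleType_eq.2 (by rw [cycleType_inv]))
  have hπs : π x ∈ c.support := by
    rw [← support_inv c, ← hπ, support_conj]
    exact Finset.mem_map_of_mem _ (mem_support.2 hx)
  obtain ⟨j, hj⟩ := hc.exists_zpow_eq (mem_support.1 hπs) hx
  set π' : Perm α := c ^ j * π with hπ'
  have hcj : ∀ i : ℤ, π' * c ^ i = (c ^ i)⁻¹ * π' := fun i => by
    have h1 : π' * c * π'⁻¹ = c⁻¹ := by
      rw [hπ', mul_inv_rev, show c ^ j * π * c * (π⁻¹ * (c ^ j)⁻¹) = c ^ j * (π * c * π⁻¹) * (c ^ j)⁻¹ by group, hπ]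
      group
    have h2 : (π' * c * π'⁻¹) ^ i = π' * c ^ i * π'⁻¹ := conj_zpow
    rw [h1, inv_zpow] at h2
    exact eq_mul_of_mul_inv_eq h2.symm
  have hπx : π' x = x := by rw [hπ', Perm.mul_apply, hj]
  have hall : ∀ y ∈ c.support, ∃ i : ℤ, (c ^ i) x = y := fun y hy => hc.exists_zpow_eq hx (mem_support.1 hy)
  have hmap : ∀ i : ℤ, π' ((c ^ i) x) = (c ^ (-i)) x := fun i => by
    rw [← Perm.mul_apply, hcj, Perm.mul_apply, hπx, zpow_neg]
  have hsup : ∀ i : ℤ, (c ^ i) x ∈ c.support := fun i => zpow_apply_mem_support.2 (mem_support.2 hx)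
  have hiff : ∀ y, π' y ∈ c.support ↔ y ∈ c.support := by
    intro y
    constructor
    · intro h
      obtain ⟨i, hi⟩ := hall _ h
      have : π' ((c ^ (-i)) x) = π' y := by rw [hmap, neg_neg, hi]
      exact π'.injective this ▸ hsup _
    · intro h
      obtain ⟨i, rfl⟩ := hall _ h
      rw [hmap]
      exact hsup _
  set u : Perm α := ofSubtype (π'.subtypePerm hiff) with hu
  have hu_in : ∀ i : ℤ, u ((c ^ i) x) = (c ^ (-i)) x := fun i => by
    rw [hu, ofSubtype_apply_of_mem _ (hsup i)]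
    exact hmap i
  have hu_out : ∀ y, y ∉ c.support → u y = y := fun y hy => ofSubtype_apply_of_not_mem _ hy
  have huu : u * u = 1 := by
    ext y
    rw [Perm.mul_apply, Perm.one_apply]
    by_cases hy : y ∈ c.support
    · obtain ⟨i, rfl⟩ := hall y hy
      rw [hu_in, hu_in, neg_neg]
    · rw [hu_out y hy, hu_out y hy]
  have hv_in : ∀ i : ℤ, (u * c) ((c ^ i) x) = (c ^ (-(i + 1))) x := fun i => by
    rw [Perm.mul_apply, ← Perm.mul_apply c, ← zpow_one_add, hu_in, add_comm]
  have hv_out : ∀ y, y ∉ c.support → (u * c) y = y := fun y hy => by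
    rw [Perm.mul_apply, notMem_support.1 hy, hu_out y hy]
  have hvv : (u * c) * (u * c) = 1 := by
    ext y
    rw [Perm.mul_apply, Perm.one_apply]
    by_cases hy : y ∈ c.support
    · obtain ⟨i, rfl⟩ := hall y hy
      rw [hv_in, hv_in]
      congr 2
      ring
    · rw [hv_out y hy, hv_out y hy]
  have hus : u.support ⊆ c.support := fun y hy => by_contra fun h => mem_support.1 hy (hu_out y h)
  have hvs : (u * c).support ⊆ c.support := fun y hy => by_contra fun h => mem_support.1 hy (hv_out y h)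
  -- counting fixed points
  set m := c.support.card with hm
  have hm2 : 2 ≤ m := hc.two_le_card_support
  have hper : ∀ k : ℕ, (c ^ k) x = x ↔ m ∣ k := fun k => by
    rw [hm, ← hc.orderOf, orderOf_dvd_iff_pow_eq_one, hc.pow_eq_one_iff' hx]
  have hinjc : ∀ a < m, ∀ b < m, (c ^ a) x = (c ^ b) x → a = b := by
    have : ∀ a b : ℕ, a ≤ b → b < m → (c ^ a) x = (c ^ b) x → a = b := by
      intro a b hab hb e
      obtain ⟨k, rfl⟩ := Nat.exists_eq_add_of_le hab
      rw [pow_add, Perm.mul_apply] at e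
      have h1 := (hper k).1 ((c ^ a).injective e).symm
      rcases Nat.eq_zero_or_pos k with hk | hk
      · omega
      · have := Nat.le_of_dvd hk h1
        omega
    intro a ha b hb e
    rcases le_total a b with h | h
    · exact this a b h hb e
    · exact (this b a h ha e.symm).symm
  have hall' : ∀ y ∈ c.support, ∃ i < m, (c ^ i) x = y := by
    intro y hy
    obtain ⟨i, hi⟩ := hc.exists_pow_eq hx (mem_support.1 hy)
    refine ⟨i % m, Nat.mod_lt _ (by omega), ?_⟩
    rw [hm, ← hc.orderOf, pow_mod_orderOf, hi]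
  have hcount : ∀ (f : Perm α) (e : ℕ), f.support ⊆ c.support →
      (∀ i : ℕ, f ((c ^ i) x) = (c ^ i) x ↔ m ∣ 2 * i + e) →
      f.support.card + ((Finset.range m).filter fun i => m ∣ 2 * i + e).card = m := by
    intro f e hf hfix
    have h1 : (c.support \ f.support).card = ((Finset.range m).filter fun i => m ∣ 2 * i + e).card := by
      symm
      refine Finset.card_bij (fun i _ => (c ^ i) x) (fun i hi => ?_) (fun a ha b hb => ?_) (fun y hy => ?_)
      · rw [Finset.mem_filter, Finset.mem_range] at hi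
        rw [Finset.mem_sdiff, notMem_support]
        exact ⟨by simpa using hsup i, (hfix i).2 hi.2⟩
      · rw [Finset.mem_filter, Finset.mem_range] at ha hb
        exact hinjc a ha.1 b hb.1
      · rw [Finset.mem_sdiff, notMem_support] at hy
        obtain ⟨i, hi, rfl⟩ := hall' y hy.1
        exact ⟨i, Finset.mem_filter.2 ⟨Finset.mem_range.2 hi, (hfix i).1 hy.2⟩, rfl⟩
    rw [← h1, add_comm, Finset.card_sdiff_add_card_eq_card hf]
  have hneg : ∀ (i : ℕ) (e : ℕ), (c ^ (-((i : ℤ) + e))) x = (c ^ i) x ↔ m ∣ 2 * i + e := by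
    intro i e
    rw [← hper, zpow_neg, Perm.inv_eq_iff_eq, ← zpow_natCast c i, ← Perm.mul_apply, ← zpow_add, eq_comm,
      ← zpow_natCast c (2 * i + e)]
    rw [show ((2 * i + e : ℕ) : ℤ) = (i : ℤ) + e + i by push_cast; ring]
  have hcu := hcount u 0 hus fun i => by
    have := hu_in i
    rw [zpow_natCast] at this
    rw [this]
    simpa using hneg i 0
  have hcv := hcount (u * c) 1 hvs fun i => by
    have := hv_in i
    rw [zpow_natCast] at this
    rw [this]
    simpa using hneg i 1
  have hsign := hc.sign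
  rw [← hm] at hsign
  have heu : u * (u * c) = c := by rw [← mul_assoc, huu, one_mul]
  rcases Nat.even_or_odd m with ⟨k, hk⟩ | ⟨k, hk⟩
  · have e1 : ((Finset.range m).filter fun i => m ∣ 2 * i + 0) = {0, k} := by
      ext i
      simp only [Finset.mem_filter, Finset.mem_range, Finset.mem_insert, Finset.mem_singleton, add_zero]
      constructor
      · rintro ⟨hi, t, ht⟩
        have : t < 2 := by
          by_contra! h
          have : m * 2 ≤ m * t := Nat.mul_le_mul_left m h
          omega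
        interval_cases t <;> omega
      · rintro (rfl | rfl)
        · exact ⟨by omega, dvd_zero m⟩
        · exact ⟨by omega, ⟨1, by omega⟩⟩
    have e2 : ((Finset.range m).filter fun i => m ∣ 2 * i + 1) = ∅ := by
      refine Finset.filter_eq_empty_iff.2 fun i _ h => ?_
      have : 2 ∣ 2 * i + 1 := (Dvd.intro k (by omega : 2 * k = m)).trans h
      omega
    rw [e1, Finset.card_pair (by omega)] at hcu
    rw [e2, Finset.card_empty] at hcv
    obtain ⟨hvv', huu'⟩ : (u * (u * c) * u⁻¹) * (u * (u * c) * u⁻¹) = 1 ∧ (u * (u * c) * u⁻¹) * u = c := by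
      constructor
      · rw [show u * (u * c) * u⁻¹ * (u * (u * c) * u⁻¹) = u * ((u * c) * (u * c)) * u⁻¹ by group, hvv, mul_one,
          mul_inv_cancel]
      · rw [inv_mul_cancel_right, heu]
    have hs : Perm.sign c = -1 := by rw [hsign, Even.neg_one_pow ⟨k, hk⟩]
    refine ⟨_, _, hvv', huu, huu', support_subset_conj hus hvs, hus,
      fun h => absurd (hs.symm.trans h) (by decide), fun _ => ?_⟩
    rw [card_support_conj]
    exact ⟨by omega, by omega⟩
  · have e1 : ((Finset.range m).filter fun i => m ∣ 2 * i + 0) = {0} := by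
      ext i
      simp only [Finset.mem_filter, Finset.mem_range, Finset.mem_singleton, add_zero]
      constructor
      · rintro ⟨hi, t, ht⟩
        have : t < 2 := by
          by_contra! h
          have : m * 2 ≤ m * t := Nat.mul_le_mul_left m h
          omega
        interval_cases t <;> omega
      · rintro rfl
        exact ⟨by omega, dvd_zero m⟩
    have e2 : ((Finset.range m).filter fun i => m ∣ 2 * i + 1) = {k} := by
      ext i
      simp only [Finset.mem_filter, Finset.mem_range, Finset.mem_singleton]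
      constructor
      · rintro ⟨hi, t, ht⟩
        have : t < 2 := by
          by_contra! h
          have : m * 2 ≤ m * t := Nat.mul_le_mul_left m h
          omega
        interval_cases t <;> omega
      · rintro rfl
        exact ⟨by omega, ⟨1, by omega⟩⟩
    rw [e1, Finset.card_singleton] at hcu
    rw [e2, Finset.card_singleton] at hcv
    have hs : Perm.sign c = 1 := by rw [hsign, Odd.neg_one_pow ⟨k, hk⟩, neg_neg]
    exact ⟨u, u * c, huu, hvv, heu, hus, hvs, fun _ => ⟨by omega, Or.inr (by omega)⟩,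
      fun h => absurd (hs.symm.trans h) (by decide)⟩

theorem pair (σ : Perm α) : Pair σ :=
  cycle_induction_on Pair σ Pair.one (fun _ h => Pair.of_isCycle h) fun _ _ hd _ h1 h2 => h1.mul hd h2

/-- `σ = [a, b]` with `a`, `b` even and `b` interchanging the pairs `p, q` and `r, s`. -/
def Flippable (σ : Perm α) : Prop :=
  ∃ (a b : Perm α) (p q r s : α), Perm.sign a = 1 ∧ Perm.sign b = 1 ∧ a * b * a⁻¹ * b⁻¹ = σ ∧ p ≠ q ∧ p ≠ r ∧
    p ≠ s ∧ q ≠ r ∧ q ≠ s ∧ r ≠ s ∧ b p = q ∧ b q = p ∧ b r = s ∧ b s = r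

theorem flippable_of_isConj {U b σ : Perm α} (he : U * b⁻¹ = σ) (hconj : IsConj b U) (hb : Perm.sign b = 1)
    {p q r s : α} (hpq : p ≠ q) (hpr : p ≠ r) (hps : p ≠ s) (hqr : q ≠ r) (hqs : q ≠ s) (hrs : r ≠ s)
    (h1 : b p = q) (h2 : b q = p) (h3 : b r = s) (h4 : b s = r) : Flippable σ := by
  obtain ⟨a, ha⟩ := isConj_iff.1 hconj
  rcases Int.units_eq_one_or (Perm.sign a) with hs | hs
  · exact ⟨a, b, p, q, r, s, hs, hb, by rw [ha, he], hpq, hpr, hps, hqr, hqs, hrs, h1, h2, h3, h4⟩
  · refine ⟨a * Equiv.swap p q, b, p, q, r, s, by rw [map_mul, hs, sign_swap hpq]; decide, hb, ?_,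
      hpq, hpr, hps, hqr, hqs, hrs, h1, h2, h3, h4⟩
    have hsw : Equiv.swap p q * b * (Equiv.swap p q)⁻¹ = b := by
      have := (Equiv.swap_apply_apply b p q).symm
      rw [h1, h2, Equiv.swap_comm q p, mul_inv_eq_iff_eq_mul] at this
      rw [← this, mul_inv_cancel_right]
    rw [mul_inv_rev, show a * Equiv.swap p q * b * ((Equiv.swap p q)⁻¹ * a⁻¹) * b⁻¹
      = a * (Equiv.swap p q * b * (Equiv.swap p q)⁻¹) * a⁻¹ * b⁻¹ by group, hsw, ha, he]

/-- Two interchanged pairs in an involution moving at least four points. -/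
theorem exists_two_pairs {b : Perm α} (hb : b * b = 1) (h : 4 ≤ b.support.card) :
    ∃ p q r s, p ≠ q ∧ p ≠ r ∧ p ≠ s ∧ q ≠ r ∧ q ≠ s ∧ r ≠ s ∧ b p = q ∧ b q = p ∧ b r = s ∧ b s = r := by
  have hbb : ∀ y, b (b y) = y := fun y => by rw [← Perm.mul_apply, hb, Perm.one_apply]
  obtain ⟨p, hp⟩ := Finset.card_pos.1 (by omega : 0 < b.support.card)
  obtain ⟨r, hr⟩ : (b.support \ {p, b p}).Nonempty := by
    rw [← Finset.card_pos]
    have h1 := Finset.le_card_sdiff {p, b p} b.support
    have h2 : ({p, b p} : Finset α).card ≤ 2 := Finset.card_le_two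
    omega
  simp only [Finset.mem_sdiff, Finset.mem_insert, Finset.mem_singleton, not_or, mem_support] at hr hp
  refine ⟨p, b p, r, b r, Ne.symm hp, Ne.symm hr.2.1, ?_, Ne.symm hr.2.2, fun e => hr.2.1 (b.injective e).symm,
    Ne.symm hr.1, rfl, hbb p, rfl, hbb r⟩
  intro e
  exact hr.2.2 (by rw [e, hbb])

theorem flippable_even {u v σ : Perm α} (hu : u * u = 1) (hv : v * v = 1) (he : u * v = σ)
    (hcard : u.support.card = v.support.card) (h4 : 4 ≤ v.support.card) (hsign : Perm.sign v = 1) :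
    Flippable σ := by
  obtain ⟨p, q, r, s, h1, h2, h3, h5, h6, h7, e1, e2, e3, e4⟩ := exists_two_pairs hv h4
  obtain ⟨k, hk, hkc, -⟩ := invol_cycleType hu
  obtain ⟨l, hl, hlc, -⟩ := invol_cycleType hv
  refine flippable_of_isConj (U := u) (b := v) (by rw [inv_eq_of_mul_eq_one_right hv, he]) ?_ hsign
    h1 h2 h3 h5 h6 h7 e1 e2 e3 e4
  rw [isConj_iff_cycleType_eq, hk, hl, show l = k by omega]

/-- The glued involution. -/
theorem glue {u : Perm α} (hu : u * u = 1) {x y : α} (hx : u x = x) (hy : u y ≠ y) :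
    ∃ u₀ : Perm α, u₀ * u₀ = 1 ∧ u₀.support.card + 2 = u.support.card ∧
      (u * Equiv.swap x y).cycleType = ({3} : Multiset ℕ) + u₀.cycleType ∧
      ∀ w ∈ u₀.support, (u * Equiv.swap x y) w = u₀ w ∧ u w = u₀ w := by
  have huu : ∀ w, u (u w) = w := fun w => by rw [← Perm.mul_apply, hu, Perm.one_apply]
  have hui : u⁻¹ = u := inv_eq_of_mul_eq_one_right hu
  have hxy : x ≠ y := fun e => hy (e ▸ hx)
  have hxy' : x ≠ u y := fun e => hxy (u.injective (by rw [hx, ← e]))
  have hcomm : u * Equiv.swap y (u y) * u⁻¹ = Equiv.swap y (u y) := by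
    rw [← Equiv.swap_apply_apply, huu, Equiv.swap_comm]
  set u₀ := Equiv.swap y (u y) * u with hu₀
  have h0y : u₀ y = y := by rw [hu₀, Perm.mul_apply, Equiv.swap_apply_right]
  have h0y' : u₀ (u y) = u y := by rw [hu₀, Perm.mul_apply, huu, Equiv.swap_apply_left]
  have h0x : u₀ x = x := by rw [hu₀, Perm.mul_apply, hx, Equiv.swap_apply_of_ne_of_ne hxy hxy']
  have hsup : ∀ w, w ∈ u₀.support → w ≠ y ∧ w ≠ u y ∧ w ≠ x := fun w hw =>
    ⟨fun e => mem_support.1 hw (e ▸ h0y), fun e => mem_support.1 hw (e ▸ h0y'), fun e => mem_support.1 hw (e ▸ h0x)⟩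
  have hd1 : Disjoint (Equiv.swap y (u y)) u₀ := by
    rw [disjoint_iff_disjoint_support, support_swap (Ne.symm hy), Finset.disjoint_left]
    intro w hw hw'
    simp only [Finset.mem_insert, Finset.mem_singleton] at hw
    rcases hw with rfl | rfl
    · exact (hsup _ hw').1 rfl
    · exact (hsup _ hw').2.1 rfl
  have hue : u = Equiv.swap y (u y) * u₀ := by rw [hu₀, ← mul_assoc, Equiv.swap_mul_self, one_mul]
  have h00 : u₀ * u₀ = 1 := by
    rw [mul_inv_eq_iff_eq_mul] at hcomm
    rw [hu₀, mul_assoc, ← mul_assoc u, hcomm, mul_assoc (Equiv.swap y (u y)) u u, hu, mul_one, Equiv.swap_mul_self]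
  refine ⟨u₀, h00, ?_, ?_, fun w hw => ?_⟩
  · have := hd1.card_support_mul
    rw [← hue, card_support_swap (Ne.symm hy)] at this
    omega
  · have hd2 : Disjoint (Equiv.swap y (u y) * Equiv.swap y x) u₀ := by
      rw [disjoint_iff_disjoint_support, Finset.disjoint_left]
      intro w hw hw'
      obtain ⟨w1, w2, w3⟩ := hsup w hw'
      apply mem_support.1 hw
      rw [Perm.mul_apply, Equiv.swap_apply_of_ne_of_ne w1 w3, Equiv.swap_apply_of_ne_of_ne w1 w2]
    have hd3 : Commute u₀ (Equiv.swap x y) := by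
      refine Disjoint.commute (disjoint_iff_disjoint_support.2 ?_)
      rw [support_swap hxy, Finset.disjoint_left]
      intro w hw hw'
      simp only [Finset.mem_insert, Finset.mem_singleton] at hw'
      rcases hw' with rfl | rfl
      · exact (hsup _ hw).2.2 rfl
      · exact (hsup _ hw).1 rfl
    have h3 : (Equiv.swap y (u y) * Equiv.swap y x).IsThreeCycle :=
      isThreeCycle_swap_mul_swap_same (Ne.symm hy) hxy.symm hxy'.symm
    conv_lhs => rw [hue]
    rw [mul_assoc, hd3.eq, ← mul_assoc, Equiv.swap_comm x y, hd2.cycleType_mul, h3]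
  · obtain ⟨w1, w2, w3⟩ := hsup w hw
    have h4 : u₀ w ∈ u₀.support := apply_mem_support.2 hw
    have h5 : u w = u₀ w := by
      conv_lhs => rw [hue]
      rw [Perm.mul_apply, Equiv.swap_apply_of_ne_of_ne (hsup _ h4).1 (hsup _ h4).2.1]
    exact ⟨by rw [Perm.mul_apply, Equiv.swap_apply_of_ne_of_ne w3 w1, h5], h5⟩

theorem flippable_odd {u v σ : Perm α} (hu : u * u = 1) (hv : v * v = 1) (he : u * v = σ)
    (hcard : u.support.card = v.support.card) (h6 : 6 ≤ v.support.card) (hsign : Perm.sign v = -1)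
    {x y : α} (hx1 : u x = x) (hx2 : v x ≠ x) (hy1 : v y = y) (hy2 : u y ≠ y) : Flippable σ := by
  obtain ⟨u₀, hu0, hu0c, hut, -⟩ := glue hu hx1 hy2
  obtain ⟨v₀, hv0, hv0c, hvt, hv0e⟩ := glue hv hy1 hx2
  obtain ⟨p, q, r, s, h1, h2, h3, h5, h6', h7, e1, e2, e3, e4⟩ := exists_two_pairs hv0 (by omega)
  have hxy : x ≠ y := fun e => hy2 (e ▸ hx1)
  rw [Equiv.swap_comm y x] at hvt hv0e
  have hmem : ∀ w w', v₀ w = w' → w ≠ w' → (v * Equiv.swap x y) w = w' := fun w w' e hne => by
    rw [(hv0e w (mem_support.2 (e ▸ Ne.symm hne))).1, e]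
  refine flippable_of_isConj (U := u * Equiv.swap x y) (b := v * Equiv.swap x y) ?_ ?_ ?_ h1 h2 h3 h5 h6' h7
    (hmem p q e1 h1) (hmem q p e2 h1.symm) (hmem r s e3 h7) (hmem s r e4 h7.symm)
  · rw [mul_inv_rev, ← mul_assoc, mul_inv_cancel_right, inv_eq_of_mul_eq_one_right hv, he]
  · obtain ⟨k, hk, hkc, -⟩ := invol_cycleType hu0
    obtain ⟨l, hl, hlc, -⟩ := invol_cycleType hv0
    rw [isConj_iff_cycleType_eq, hut, hvt, hk, hl, show l = k by omega]
  · rw [map_mul, hsign, sign_swap hxy]; decide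

theorem flippable (h5 : 5 ≤ Fintype.card α) {σ : Perm α} (hσ : Perm.sign σ = 1) : Flippable σ := by
  by_cases h1 : σ = 1
  · obtain ⟨l, hl, hln⟩ : ∃ l : List α, l.length = 4 ∧ l.Nodup := ⟨(Finset.univ.toList.take 4), by
      rw [List.length_take, Finset.length_toList, Finset.card_univ]; omega, (Finset.nodup_toList _).take⟩
    match l, hl, hln with
    | [p, q, r, s], _, hn =>
      simp only [List.nodup_cons, List.mem_cons, List.not_mem_nil, or_false, not_or] at hn
      obtain ⟨⟨hpq, hpr, hps⟩, ⟨hqr, hqs⟩, hrs, -⟩ := hn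
      refine ⟨1, Equiv.swap p q * Equiv.swap r s, p, q, r, s, map_one _, ?_, ?_, hpq, hpr, hps, hqr, hqs, hrs,
        ?_, ?_, ?_, ?_⟩
      · rw [map_mul, sign_swap hpq, sign_swap hrs]; decide
      · rw [h1]; group
      · rw [Perm.mul_apply, Equiv.swap_apply_of_ne_of_ne hpr hps, Equiv.swap_apply_left]
      · rw [Perm.mul_apply, Equiv.swap_apply_of_ne_of_ne hqr hqs, Equiv.swap_apply_right]
      · rw [Perm.mul_apply, Equiv.swap_apply_left, Equiv.swap_apply_of_ne_of_ne (Ne.symm hps) (Ne.symm hqs)]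
      · rw [Perm.mul_apply, Equiv.swap_apply_right, Equiv.swap_apply_of_ne_of_ne (Ne.symm hpr) (Ne.symm hqr)]
  obtain ⟨u, v, hu, hv, he, hus, hvs, hev, -⟩ := pair σ
  obtain ⟨hcard, hlt⟩ := hev hσ
  have hlt := hlt.resolve_left h1
  obtain ⟨k, -, hkc, hks⟩ := invol_cycleType hu
  obtain ⟨l, -, hlc, hls⟩ := invol_cycleType hv
  have hkl : l = k := by omega
  subst hkl
  have hk0 : l ≠ 0 := by
    rintro rfl
    refine h1 ?_
    rw [← he, support_eq_empty_iff.1 (Finset.card_eq_zero.1 (by omega : u.support.card = 0)),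
      support_eq_empty_iff.1 (Finset.card_eq_zero.1 (by omega : v.support.card = 0)), one_mul]
  rcases Nat.even_or_odd l with hl2 | hl2
  · obtain ⟨j, hj⟩ := id hl2
    exact flippable_even hu hv he hcard (by omega) (by rw [hls, hl2.neg_one_pow])
  · by_cases hl1 : l = 1
    · subst hl1
      obtain ⟨a, b, hab, rfl⟩ := card_support_eq_two.1 (by omega : u.support.card = 2)
      obtain ⟨c, e, hce, rfl⟩ := card_support_eq_two.1 (by omega : v.support.card = 2)
      have hone : ∀ {i j : α}, Equiv.swap i j * Equiv.swap i j = 1 := fun {i j} => Equiv.swap_mul_self i j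
      have hdouble : ∀ {p q r s : α}, p ≠ q → r ≠ s → p ≠ r → p ≠ s → q ≠ r → q ≠ s →
          (Equiv.swap p q * Equiv.swap r s) * (Equiv.swap p q * Equiv.swap r s) = 1 ∧
            (Equiv.swap p q * Equiv.swap r s).support.card = 4 ∧
            Perm.sign (Equiv.swap p q * Equiv.swap r s) = 1 := by
        intro p q r s hpq hrs hpr hps hqr hqs
        have hd : Disjoint (Equiv.swap p q) (Equiv.swap r s) := by
          rw [disjoint_iff_disjoint_support, support_swap hpq, support_swap hrs]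
          simp [hpr, hps, hqr, hqs, hpr.symm, hps.symm, hqr.symm, hqs.symm]
        refine ⟨?_, ?_, ?_⟩
        · rw [mul_assoc, ← mul_assoc (Equiv.swap r s), ← hd.commute.eq, mul_assoc (Equiv.swap p q) (Equiv.swap r s),
            hone, mul_one, hone]
        · rw [hd.card_support_mul, card_support_swap hpq, card_support_swap hrs]
        · rw [map_mul, sign_swap hpq, sign_swap hrs]; decide
      by_cases hd : a ≠ c ∧ a ≠ e ∧ b ≠ c ∧ b ≠ e
      · obtain ⟨hac, hae, hbc, hbe⟩ := hd
        obtain ⟨hu', huc, hus'⟩ := hdouble (p := a) (q := c) (r := b) (s := e) hac hbe hab hae hbc.symm hce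
        obtain ⟨hv', hvc, hvs'⟩ := hdouble (p := a) (q := e) (r := b) (s := c) hae hbc hab hac hbe.symm hce.symm
        refine flippable_even hu' hv' ?_ (huc.trans hvc.symm) hvc.ge hvs'
        rw [← he]
        ext w
        simp only [Perm.mul_apply]
        rcases eq_or_ne w a with rfl | wa
        · simp [Equiv.swap_apply_of_ne_of_ne, hab, hac, hae, hbc, hbe, hce, hab.symm, hac.symm, hae.symm,
            hbc.symm, hbe.symm, hce.symm]
        rcases eq_or_ne w b with rfl | wb
        · simp [Equiv.swap_apply_of_ne_of_ne, hab, hac, hae, hbc, hbe, hce, hab.symm, hac.symm, hae.symm,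
            hbc.symm, hbe.symm, hce.symm]
        rcases eq_or_ne w c with rfl | wc
        · simp [Equiv.swap_apply_of_ne_of_ne, hab, hac, hae, hbc, hbe, hce, hab.symm, hac.symm, hae.symm,
            hbc.symm, hbe.symm, hce.symm]
        rcases eq_or_ne w e with rfl | we
        · simp [Equiv.swap_apply_of_ne_of_ne, hab, hac, hae, hbc, hbe, hce, hab.symm, hac.symm, hae.symm,
            hbc.symm, hbe.symm, hce.symm]
        simp [Equiv.swap_apply_of_ne_of_ne, wa, wb, wc, we]
      · have hsmall : ({a, b, c, e} : Finset α).card ≤ 3 := by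
          have hne : (({a, b} : Finset α) ∩ {c, e}).Nonempty := by
            by_contra h
            exact hd ⟨fun e' => h ⟨a, by simp [e']⟩, fun e' => h ⟨a, by simp [e']⟩, fun e' => h ⟨b, by simp [e']⟩,
              fun e' => h ⟨b, by simp [e']⟩⟩
          have h1 := Finset.card_union_add_card_inter ({a, b} : Finset α) {c, e}
          have h2 : ({a, b} : Finset α).card ≤ 2 := Finset.card_le_two
          have h3 : ({c, e} : Finset α).card ≤ 2 := Finset.card_le_two
          have h4 := Finset.card_pos.2 hne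
          rw [show ({a, b, c, e} : Finset α) = {a, b} ∪ {c, e} by ext w; simp; tauto]
          omega
        obtain ⟨i, hi, j, hj, hij⟩ := Finset.one_lt_card.1 (show 1 < (Finset.univ \ ({a, b, c, e} : Finset α)).card by
          have := Finset.le_card_sdiff ({a, b, c, e} : Finset α) Finset.univ
          rw [Finset.card_univ] at this
          omega)
        simp only [Finset.mem_sdiff, Finset.mem_univ, true_and, Finset.mem_insert, Finset.mem_singleton, not_or]
          at hi hj
        obtain ⟨hu', huc, -⟩ := hdouble (p := a) (q := b) (r := i) (s := j) hab hij (Ne.symm hi.1) (Ne.symm hj.1)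
          (Ne.symm hi.2.1) (Ne.symm hj.2.1)
        obtain ⟨hv', hvc, hvs'⟩ := hdouble (p := c) (q := e) (r := i) (s := j) hce hij (Ne.symm hi.2.2.1)
          (Ne.symm hj.2.2.1) (Ne.symm hi.2.2.2) (Ne.symm hj.2.2.2)
        refine flippable_even hu' hv' ?_ (huc.trans hvc.symm) hvc.ge hvs'
        have hd' : Disjoint (Equiv.swap c e) (Equiv.swap i j) := by
          rw [disjoint_iff_disjoint_support, support_swap hce, support_swap hij]
          simp [hi.2.2.1, hi.2.2.2, hj.2.2.1, hj.2.2.2, Ne.symm hi.2.2.1, Ne.symm hi.2.2.2, Ne.symm hj.2.2.1,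
            Ne.symm hj.2.2.2]
        rw [hd'.commute.eq, mul_assoc, ← mul_assoc (Equiv.swap i j), hone, one_mul, he]
    · obtain ⟨j, hj⟩ := id hl2
      obtain ⟨x, hxσ, hx⟩ := Finset.not_subset.1 fun h : σ.support ⊆ u.support => by
        have := Finset.card_le_card h
        omega
      obtain ⟨y, hyσ, hy⟩ := Finset.not_subset.1 fun h : σ.support ⊆ v.support => by
        have := Finset.card_le_card h
        omega
      rw [mem_support] at hxσ hyσ
      rw [notMem_support] at hx hy
      refine flippable_odd hu hv he hcard (by omega) (by rw [hls, hl2.neg_one_pow]) (x := x) (y := y) hx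
        (fun e => hxσ ?_) hy (fun e => hyσ ?_)
      · rw [← he, Perm.mul_apply, e, hx]
      · rw [← he, Perm.mul_apply, hy, e]

end Cfsg.Lib.AltCover
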