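import Cfsg.Agent.Schur.Alternating
import Cfsg.Agent.AltCover.InvolPair

/-!
Commutators in a perfect double cover of an alternating group.
-/

set_option autoImplicit false
set_option linter.style.haveILetI false

namespace Cfsg.Lib.AltCover

open Equiv Cfsg.Lib.Schur.Alt
open scoped commutatorElement

variable {n : ℕ} {Γ : Type*} [Group Γ] [Finite Γ]

/-- The data of a perfect double cover. -/
structure Cover (n : ℕ) (Γ : Type*) [Group Γ] where
  ρ : Γ →* Perm (Fin n)
  z : Γ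
  hn : 5 ≤ n
  hc : ρ.ker ≤ Subgroup.center Γ
  hr : ρ.range = alternatingGroup (Fin n)
  hz : z ≠ 1
  hρz : ρ z = 1
  hker : ∀ g, ρ g = 1 → g = 1 ∨ g = z
  hperf : commutator Γ = ⊤

namespace Cover

variable (K : Cover n Γ)
include K

theorem zz : K.z * K.z = 1 := by
  rcases K.hker (K.z * K.z) (by rw [map_mul, K.hρz, one_mul]) with h | h
  · exact h
  · exact absurd (mul_eq_left.1 h) K.hz

theorem comm (k g : Γ) (hk : K.ρ k = 1) : Commute g k := comm_of_ker K.hc hk g

theorem lift_unique {X Y : Γ} (h : K.ρ X = K.ρ Y) : Y = X ∨ Y = X * K.z := by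
  rcases K.hker (X⁻¹ * Y) (by rw [map_mul, map_inv, h, inv_mul_cancel]) with e | e
  · exact Or.inl (inv_mul_eq_one.1 e).symm
  · exact Or.inr (inv_mul_eq_iff_eq_mul.1 e)

theorem sq_unique {X Y : Γ} (h : K.ρ X = K.ρ Y) : Y * Y = X * X := by
  rcases K.lift_unique h with rfl | rfl
  · rfl
  · rw [mul_assoc, ← mul_assoc K.z, ← (K.comm _ X K.hρz).eq, mul_assoc X K.z, K.zz, mul_one]

theorem exists_three_lift {c : Perm (Fin n)} (hc : c ∈ alternatingGroup (Fin n)) (h3 : c * c * c = 1) :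
    ∃ X, K.ρ X = c ∧ X * X * X = 1 := by
  obtain ⟨X, hX⟩ := exists_lift K.hr hc
  rcases K.hker (X * X * X) (by rw [map_mul, map_mul, hX, h3]) with h | h
  · exact ⟨X, hX, h⟩
  · refine ⟨X * K.z, by rw [map_mul, K.hρz, mul_one, hX], ?_⟩
    have hz := fun g => (K.comm _ g K.hρz).eq
    calc X * K.z * (X * K.z) * (X * K.z) = X * (K.z * X) * (K.z * X) * K.z := by group
      _ = X * (X * K.z) * (X * K.z) * K.z := by rw [← hz X]
      _ = X * X * (K.z * X) * (K.z * K.z) := by group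
      _ = X * X * (X * K.z) * 1 := by rw [← hz X, K.zz]
      _ = X * X * X * K.z := by group
      _ = 1 := by rw [h, K.zz]

omit K in
theorem exists_map {p q r s p' q' r' s' : Fin n} (h : [p, q, r, s].Nodup) (h' : [p', q', r', s'].Nodup) :
    ∃ π : Perm (Fin n), π p = p' ∧ π q = q' ∧ π r = r' ∧ π s = s' := by
  let e := (h.getEquiv _).symm.trans ((finCongr (by simp)).trans (h'.getEquiv _))
  have key : ∀ i : Fin 4, e.extendSubtype ([p, q, r, s].get i) = [p', q', r', s'].get i := fun i => by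
    rw [Equiv.extendSubtype_apply_of_mem e _ (List.get_mem _ _)]
    simp only [e, Equiv.trans_apply]
    have hsymm : (h.getEquiv _).symm ⟨[p, q, r, s].get i, List.get_mem _ _⟩ = i := by
      rw [Equiv.symm_apply_eq]
      exact Subtype.ext rfl
    rw [hsymm]
    rfl
  exact ⟨e.extendSubtype, key 0, key 1, key 2, key 3⟩

theorem sq_double {p q r s : Fin n} (hn : [p, q, r, s].Nodup) {D : Γ}
    (hD : K.ρ D = Equiv.swap p q * Equiv.swap r s) : D * D = K.z := by
  rcases K.hker (D * D) (by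
    simp only [List.nodup_cons, List.mem_cons, List.not_mem_nil, or_false, not_or] at hn
    obtain ⟨⟨hpq, hpr, hps⟩, ⟨hqr, hqs⟩, hrs, -⟩ := hn
    have hd : Perm.Disjoint (Equiv.swap p q) (Equiv.swap r s) := by
      rw [Perm.disjoint_iff_disjoint_support, Perm.support_swap hpq, Perm.support_swap hrs]
      simp [hpr, hps, hqr, hqs, Ne.symm hpr, Ne.symm hps, Ne.symm hqr, Ne.symm hqs]
    rw [map_mul, hD, mul_assoc, ← mul_assoc (Equiv.swap r s), ← hd.commute.eq,
      mul_assoc (Equiv.swap p q) (Equiv.swap r s), Equiv.swap_mul_self, mul_one, Equiv.swap_mul_self]) with h | h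
  swap
  · exact h
  exfalso
  -- all lifts of double transpositions square to one
  have hall : ∀ p' q' r' s' : Fin n, [p', q', r', s'].Nodup → ∀ E : Γ,
      K.ρ E = Equiv.swap p' q' * Equiv.swap r' s' → E * E = 1 := by
    intro p' q' r' s' hn' E hE
    obtain ⟨π, h1, h2, h3, h4⟩ := exists_map hn hn'
    have hconj : ∀ π : Perm (Fin n), π * (Equiv.swap p q * Equiv.swap r s) * π⁻¹ =
        Equiv.swap (π p) (π q) * Equiv.swap (π r) (π s) := fun π => by
      rw [Equiv.swap_apply_apply, Equiv.swap_apply_apply]; group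
    obtain ⟨π', hπ', hπ'c⟩ : ∃ π' ∈ alternatingGroup (Fin n),
        π' * (Equiv.swap p q * Equiv.swap r s) * π'⁻¹ = Equiv.swap p' q' * Equiv.swap r' s' := by
      rcases Int.units_eq_one_or (Perm.sign π) with hs | hs
      · exact ⟨π, Perm.mem_alternatingGroup.2 hs, by rw [hconj, h1, h2, h3, h4]⟩
      · simp only [List.nodup_cons, List.mem_cons, List.not_mem_nil, or_false, not_or] at hn
        obtain ⟨⟨hpq, hpr, hps⟩, ⟨hqr, hqs⟩, -, -⟩ := hn
        refine ⟨π * Equiv.swap p q, by rw [Perm.mem_alternatingGroup, map_mul, hs, Perm.sign_swap hpq]; decide, ?_⟩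
        rw [hconj, Perm.mul_apply, Perm.mul_apply, Perm.mul_apply, Perm.mul_apply, Equiv.swap_apply_left,
          Equiv.swap_apply_right, Equiv.swap_apply_of_ne_of_ne (Ne.symm hpr) (Ne.symm hqr),
          Equiv.swap_apply_of_ne_of_ne (Ne.symm hps) (Ne.symm hqs), h1, h2, h3, h4, Equiv.swap_comm q' p']
    obtain ⟨g, hg⟩ := exists_lift K.hr hπ'
    have e : K.ρ (g * D * g⁻¹) = K.ρ E := by rw [map_mul, map_mul, map_inv, hg, hD, hπ'c, hE]
    rw [K.sq_unique e, show g * D * g⁻¹ * (g * D * g⁻¹) = g * (D * D) * g⁻¹ by group, h, mul_one, mul_inv_cancel]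
  -- a complement
  obtain ⟨a, ha⟩ : ∃ a : Fin n, a = ⟨0, by have := K.hn; omega⟩ := ⟨_, rfl⟩
  obtain ⟨b, hb⟩ : ∃ b : Fin n, b = ⟨1, by have := K.hn; omega⟩ := ⟨_, rfl⟩
  have hab : a ≠ b := by subst ha hb; simp
  have hex : ∀ i : Fin n, i ≠ a → i ≠ b → ∃ T, K.ρ T = cyc a b i ∧ T * T * T = 1 := fun i h1 h2 =>
    K.exists_three_lift (cyc_mem a b i hab h1.symm) (by
      rw [mul_assoc, ← pow_three]; exact cyc_pow_three hab h1.symm h2.symm)
  choose! T hT using hex
  have hsq : ∀ i j, i ≠ a → i ≠ b → j ≠ a → j ≠ b → i ≠ j → (T i * T j) * (T i * T j) = 1 := by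
    intro i j hia hib hja hjb hij
    refine hall a i b j (by simp [hab, hab.symm, Ne.symm hia, Ne.symm hja, hib, Ne.symm hjb, hij, hib.symm]) _ ?_
    rw [map_mul, (hT i hia hib).1, (hT j hja hjb).1]
    ext x
    simp only [cyc, Perm.mul_apply]
    rcases eq_or_ne x a with rfl | xa
    · simp [Equiv.swap_apply_of_ne_of_ne, hab, hab.symm, hia, hja, hib, hjb, hij, Ne.symm hia, Ne.symm hja,
        Ne.symm hib, Ne.symm hjb, Ne.symm hij]
    rcases eq_or_ne x b with rfl | xb
    · simp [Equiv.swap_apply_of_ne_of_ne, hab, hab.symm, hia, hja, hib, hjb, hij, Ne.symm hia, Ne.symm hja,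
        Ne.symm hib, Ne.symm hjb, Ne.symm hij]
    rcases eq_or_ne x i with rfl | xi
    · simp [Equiv.swap_apply_of_ne_of_ne, hab, hab.symm, hia, hja, hib, hjb, hij, Ne.symm hia, Ne.symm hja,
        Ne.symm hib, Ne.symm hjb, Ne.symm hij]
    rcases eq_or_ne x j with rfl | xj
    · simp [Equiv.swap_apply_of_ne_of_ne, hab, hab.symm, hia, hja, hib, hjb, hij, Ne.symm hia, Ne.symm hja,
        Ne.symm hib, Ne.symm hjb, Ne.symm hij]
    simp [Equiv.swap_apply_of_ne_of_ne, xa, xb, xi, xj]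
  let pt : ℕ → Fin n := fun k => if hk : k + 2 < n then ⟨k + 2, hk⟩ else a
  have hpt : ∀ k < n - 2, pt k ≠ a ∧ pt k ≠ b := by
    intro k hk
    simp only [pt, dif_pos (show k + 2 < n by omega), ha, hb]
    simp [Fin.ext_iff]
  have hb1 := card_closure_le (fun k => T (pt k)) (n - 2)
    (fun k hk => by
      obtain ⟨h1, h2⟩ := hpt k hk
      rw [pow_three, ← mul_assoc]; exact (hT _ h1 h2).2)
    (fun k hk l hl hkl => by
      obtain ⟨h1, h2⟩ := hpt k hk
      obtain ⟨h3, h4⟩ := hpt l hl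
      have hne : pt k ≠ pt l := by
        simp only [pt, dif_pos (show k + 2 < n by omega), dif_pos (show l + 2 < n by omega)]
        simp [Fin.ext_iff, hkl]
      rw [pow_two]; exact hsq _ _ h1 h2 h3 h4 hne)
  set R := Subgroup.closure ((fun k => T (pt k)) '' Set.Iio (n - 2)) with hR
  have hRmap : ∀ g : Γ, ∃ r ∈ R, K.ρ r = K.ρ g := by
    intro g
    refine mem_of_cyc_mem hab (H := R.map K.ρ) (fun k h1 h2 => ?_) (K.hr ▸ ⟨g, rfl⟩)
    have hk2 : 2 ≤ (k : ℕ) := by
      rw [ha] at h1; rw [hb] at h2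
      simp [Fin.ext_iff] at h1 h2
      omega
    have hk3 := k.2
    refine ⟨T k, hR ▸ Subgroup.subset_closure ⟨(k : ℕ) - 2, show (k : ℕ) - 2 < n - 2 by omega, ?_⟩, (hT k h1 h2).1⟩
    have : pt ((k : ℕ) - 2) = k := by
      simp only [pt, dif_pos (show (k : ℕ) - 2 + 2 < n by omega)]
      ext; simp; omega
    show T (pt ((k : ℕ) - 2)) = T k
    rw [this]
  have hRtop : R = ⊤ := by
    rw [← top_le_iff, ← K.hperf, commutator_def, Subgroup.commutator_le]
    intro x _ y _
    obtain ⟨r, hr', hrx⟩ := hRmap x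
    obtain ⟨t, ht', hty⟩ := hRmap y
    rw [Cfsg.Lib.Schur.comm_congr K.ρ K.hc hrx.symm hty.symm, commutatorElement_def]
    exact R.mul_mem (R.mul_mem (R.mul_mem hr' ht') (R.inv_mem hr')) (R.inv_mem ht')
  rw [hRtop, Subgroup.card_top, show n - 2 + 2 = n by have := K.hn; omega] at hb1
  have hA : 2 * Nat.card (alternatingGroup (Fin n)) = n.factorial := by
    haveI : Nontrivial (Fin n) := Fin.nontrivial_iff_two_le.2 (by have := K.hn; omega)
    rw [Nat.card_eq_fintype_card, two_mul_card_alternatingGroup, Fintype.card_perm, Fintype.card_fin]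
  have hcard : Nat.card Γ = Nat.card (alternatingGroup (Fin n)) * Nat.card K.ρ.ker := by
    rw [← K.ρ.ker.card_mul_index, Subgroup.index_ker, K.hr, mul_comm]
  have hker2 : 2 ≤ Nat.card K.ρ.ker := by
    haveI : Nontrivial K.ρ.ker := ⟨⟨⟨K.z, K.hρz⟩, 1, fun e => K.hz (congrArg Subtype.val e)⟩⟩
    exact Finite.one_lt_card
  have hpos : 0 < Nat.card (alternatingGroup (Fin n)) := Nat.card_pos
  have h5 := Nat.mul_le_mul_left (Nat.card (alternatingGroup (Fin n))) hker2
  omega

theorem commute_disjoint_even {x y : Perm (Fin n)} (hd : Perm.Disjoint x y) (hy : Perm.sign y = 1) {X Y : Γ}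
    (hX : K.ρ X = x) (hY : K.ρ Y = y) : Commute X Y := by
  let C : Subgroup Γ := Subgroup.centralizer {X}
  let H : Subgroup (Perm {w // w ∈ y.support}) := (C.map K.ρ).comap Perm.ofSubtype
  have h3 : {σ : Perm {w // w ∈ y.support} | σ.IsThreeCycle} ⊆ H := by
    intro w hw
    have hmem : Perm.ofSubtype w ∈ alternatingGroup (Fin n) := by
      rw [Perm.mem_alternatingGroup, Perm.sign_ofSubtype]; exact hw.sign
    have hcube : Perm.ofSubtype w * Perm.ofSubtype w * Perm.ofSubtype w = 1 := by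
      rw [← map_mul, ← map_mul, mul_assoc, ← pow_three, ← hw.orderOf, pow_orderOf_eq_one, map_one]
    obtain ⟨W, hW, hW3⟩ := K.exists_three_lift hmem hcube
    refine ⟨W, Subgroup.mem_centralizer_singleton_iff.2 ?_, hW⟩
    have hdis : Perm.Disjoint x (Perm.ofSubtype w) := fun a => by
      by_cases ha : a ∈ y.support
      · exact Or.inl ((hd a).resolve_right (Perm.mem_support.1 ha))
      · exact Or.inr (Perm.ofSubtype_apply_of_not_mem w ha)
    obtain ⟨k, hk, hk'⟩ : ∃ k, K.ρ k = 1 ∧ W * X * W⁻¹ = X * k := ⟨X⁻¹ * (W * X * W⁻¹), by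
      rw [map_mul, map_mul, map_mul, map_inv, map_inv, hW, hX, hdis.commute.symm.eq]; group, by group⟩
    have hkk : k * k = 1 := by
      rcases K.hker k hk with rfl | rfl
      · exact one_mul 1
      · exact K.zz
    have hWk : W * k * W⁻¹ = k := by rw [(K.comm k W hk).eq, mul_inv_cancel_right]
    have : X * k * k * k = X := by
      calc X * k * k * k = W * X * W⁻¹ * k * k := by rw [hk']
        _ = W * (X * k) * W⁻¹ * k := by
          calc W * X * W⁻¹ * k * k = W * X * W⁻¹ * (W * k * W⁻¹) * k := by rw [hWk]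
            _ = _ := by group
        _ = W * (W * X * W⁻¹) * W⁻¹ * k := by rw [hk']
        _ = W * W * (X * k) * W⁻¹ * W⁻¹ := by
          calc W * (W * X * W⁻¹) * W⁻¹ * k = W * (W * X * W⁻¹) * W⁻¹ * (W * (W * k * W⁻¹) * W⁻¹) := by
                rw [hWk, hWk]
            _ = _ := by group
        _ = W * W * (W * X * W⁻¹) * W⁻¹ * W⁻¹ := by rw [hk']
        _ = (W * W * W) * X * (W * W * W)⁻¹ := by group
        _ = X := by rw [hW3, one_mul, inv_one, mul_one]
    rw [mul_assoc X k k, hkk, mul_one, mul_eq_left] at this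
    rw [this, mul_one, mul_inv_eq_iff_eq_mul] at hk'
    exact hk'
  have hle : alternatingGroup {w // w ∈ y.support} ≤ H := by
    rw [← Perm.closure_three_cycles_eq_alternating]
    exact (Subgroup.closure_le H).2 h3
  have hiff : ∀ a, y a ∈ y.support ↔ a ∈ y.support := fun a => Perm.apply_mem_support
  have hy' : Perm.ofSubtype (y.subtypePerm hiff) = y :=
    Perm.ofSubtype_subtypePerm hiff fun a ha => Perm.mem_support.2 ha
  have hmem := hle (Perm.mem_alternatingGroup.2 (show Perm.sign (y.subtypePerm hiff) = 1 by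
    rw [← Perm.sign_ofSubtype, hy', hy]))
  change Perm.ofSubtype (y.subtypePerm hiff) ∈ C.map K.ρ at hmem
  rw [hy', ← hY] at hmem
  obtain ⟨Y', hY', he⟩ := hmem
  have h1 : Commute Y' X := Subgroup.mem_centralizer_singleton_iff.1 hY'
  rcases K.lift_unique he with e | e <;> rw [e]
  · exact h1.symm
  · exact h1.symm.mul_right (K.comm _ X K.hρz)

/-- Every element is a commutator. -/
theorem exists_commutator (g : Γ) : ∃ A B : Γ, A * B * A⁻¹ * B⁻¹ = g := by
  have hgA : K.ρ g ∈ alternatingGroup (Fin n) := K.hr ▸ ⟨g, rfl⟩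
  obtain ⟨a, b, p, q, r, s, ha, hb, hab, hpq, hpr, hps, hqr, hqs, hrs, e1, e2, e3, e4⟩ :=
    flippable (α := Fin n) (by rw [Fintype.card_fin]; exact K.hn) (Perm.mem_alternatingGroup.1 hgA)
  obtain ⟨A, hA⟩ := exists_lift K.hr (Perm.mem_alternatingGroup.2 ha)
  obtain ⟨B, hB⟩ := exists_lift K.hr (Perm.mem_alternatingGroup.2 hb)
  set d := Equiv.swap p q * Equiv.swap r s with hd
  set c := Equiv.swap p r * Equiv.swap q s with hc
  obtain ⟨D, hD⟩ := exists_lift K.hr (swap_swap_mem hpq hrs : d ∈ alternatingGroup (Fin n))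
  obtain ⟨C, hC⟩ := exists_lift K.hr (swap_swap_mem hpr hqs : c ∈ alternatingGroup (Fin n))
  have hD2 := K.sq_double (by simp [hpq, hpr, hps, hqr, hqs, hrs]) hD
  have hC2 := K.sq_double (by simp [hpq, hpr, hps, hrs, hqs, Ne.symm hqr]) hC
  have hdc : d * c = Equiv.swap p s * Equiv.swap q r := by
    ext x
    simp only [hd, hc, Perm.mul_apply]
    rcases eq_or_ne x p with rfl | xp
    · simp [Equiv.swap_apply_of_ne_of_ne, hpq, hpr, hps, hqr, hqs, hrs, Ne.symm hpq, Ne.symm hpr, Ne.symm hps,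
        Ne.symm hqr, Ne.symm hqs, Ne.symm hrs]
    rcases eq_or_ne x q with rfl | xq
    · simp [Equiv.swap_apply_of_ne_of_ne, hpq, hpr, hps, hqr, hqs, hrs, Ne.symm hpq, Ne.symm hpr, Ne.symm hps,
        Ne.symm hqr, Ne.symm hqs, Ne.symm hrs]
    rcases eq_or_ne x r with rfl | xr
    · simp [Equiv.swap_apply_of_ne_of_ne, hpq, hpr, hps, hqr, hqs, hrs, Ne.symm hpq, Ne.symm hpr, Ne.symm hps,
        Ne.symm hqr, Ne.symm hqs, Ne.symm hrs]
    rcases eq_or_ne x s with rfl | xs
    · simp [Equiv.swap_apply_of_ne_of_ne, hpq, hpr, hps, hqr, hqs, hrs, Ne.symm hpq, Ne.symm hpr, Ne.symm hps,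
        Ne.symm hqr, Ne.symm hqs, Ne.symm hrs]
    simp [Equiv.swap_apply_of_ne_of_ne, xp, xq, xr, xs]
  have hDC2 := K.sq_double (p := p) (q := s) (r := q) (s := r) (D := D * C)
    (by simp [hpq, hpr, hps, hqr, Ne.symm hqs, Ne.symm hrs]) (by rw [map_mul, hD, hC, hdc])
  have hzc := fun x => (K.comm _ x K.hρz).eq
  have hCD : C * D = K.z * (D * C) := by
    have h1 : D * D * (C * C) = 1 := by rw [hD2, hC2, K.zz]
    have h2 : D * (C * D) * C = K.z := by rw [← hDC2]; group
    calc C * D = D⁻¹ * (D * (C * D) * C) * C⁻¹ := by group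
      _ = K.z * (D⁻¹ * C⁻¹) := by rw [h2, hzc]; group
      _ = K.z * (D⁻¹ * (D * D * (C * C)) * C⁻¹) := by rw [h1]; group
      _ = _ := by group
  -- the rest of `b`
  have hdd : d * d = 1 := by
    have := congrArg K.ρ hD2
    rwa [map_mul, hD, K.hρz] at this
  have hdp : d p = q := by rw [hd, Perm.mul_apply, Equiv.swap_apply_of_ne_of_ne hpr hps, Equiv.swap_apply_left]
  have hdq : d q = p := by rw [hd, Perm.mul_apply, Equiv.swap_apply_of_ne_of_ne hqr hqs, Equiv.swap_apply_right]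
  have hdr : d r = s := by
    rw [hd, Perm.mul_apply, Equiv.swap_apply_left, Equiv.swap_apply_of_ne_of_ne (Ne.symm hps) (Ne.symm hqs)]
  have hds : d s = r := by
    rw [hd, Perm.mul_apply, Equiv.swap_apply_right, Equiv.swap_apply_of_ne_of_ne (Ne.symm hpr) (Ne.symm hqr)]
  have hdis : Perm.Disjoint c (d * b) := by
    intro x
    by_cases hx : x = p ∨ x = q ∨ x = r ∨ x = s
    · right
      rw [Perm.mul_apply]
      rcases hx with rfl | rfl | rfl | rfl
      · rw [e1, hdq]
      · rw [e2, hdp]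
      · rw [e3, hds]
      · rw [e4, hdr]
    · left
      push Not at hx
      rw [hc, Perm.mul_apply, Equiv.swap_apply_of_ne_of_ne hx.2.1 hx.2.2.2,
        Equiv.swap_apply_of_ne_of_ne hx.1 hx.2.2.1]
  have hsd : Perm.sign d = 1 := by rw [hd, map_mul, Perm.sign_swap hpq, Perm.sign_swap hrs]; decide
  have hρB' : K.ρ (D⁻¹ * B) = d * b := by rw [map_mul, map_inv, hD, hB, inv_eq_of_mul_eq_one_right hdd]
  have hCB' := (K.commute_disjoint_even hdis (by rw [map_mul, hsd, hb, one_mul]) hC hρB').eq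
  have hCB : C * B = K.z * (B * C) := by
    calc C * B = C * D * (D⁻¹ * B) := by group
      _ = K.z * D * (C * (D⁻¹ * B)) := by rw [hCD]; group
      _ = K.z * D * (D⁻¹ * B * C) := by rw [hCB']
      _ = _ := by group
  have hflip : A * C * B * (A * C)⁻¹ * B⁻¹ = K.z * (A * B * A⁻¹ * B⁻¹) := by
    calc A * C * B * (A * C)⁻¹ * B⁻¹ = A * (C * B) * C⁻¹ * A⁻¹ * B⁻¹ := by group
      _ = A * K.z * B * A⁻¹ * B⁻¹ := by rw [hCB]; group
      _ = _ := by rw [hzc A]; group
  have hρg : K.ρ (A * B * A⁻¹ * B⁻¹) = K.ρ g := by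
    rw [map_mul, map_mul, map_mul, map_inv, map_inv, hA, hB, hab]
  rcases K.lift_unique hρg with e | e
  · exact ⟨A, B, e.symm⟩
  · refine ⟨A * C, B, ?_⟩
    rw [hflip, e, hzc]

end Cover

end Cfsg.Lib.AltCover
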